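import Groth.Agent.Lib.FEt21.Thick
import Groth.Prelude.Def_FSch4

/-!
# Étale covers of a formal system and of its smallest level
-/

set_option autoImplicit false
set_option backward.isDefEq.respectTransparency false
set_option linter.style.haveILetI false
universe u

open CategoryTheory CategoryTheory.Limits AlgebraicGeometry

namespace GrothLib.EtCov7

variable {𝔛 : FSch.Sys.{u}}

theorem equiv_ι (h : 𝔛.IsFormal) (n : ℕ) : (FEt.restrict (𝔛.ι n)).IsEquivalence :=
  haveI := (h n).1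
  haveI : Surjective (𝔛.ι n) := ⟨(h n).2⟩
  FEt21.isEquivalence_of_thickening (𝔛.ι n)

/-- A level of an étale cover is the restriction of the next one. -/
noncomputable def levelIso (R : FSch.EtCov 𝔛) (n : ℕ) :
    (FSch.EtCov.level 𝔛 n).obj R ≅ (FEt.restrict (𝔛.ι n)).obj ((FSch.EtCov.level 𝔛 (n + 1)).obj R) :=
  MorphismProperty.Over.isoMk (R.property.1 n).isoPullback (R.property.1 n).isoPullback_hom_snd

theorem levelIso_fst (R : FSch.EtCov 𝔛) (n : ℕ) :
    (levelIso R n).hom.left ≫ pullback.fst _ _ = R.obj.left.ι n := (R.property.1 n).isoPullback_hom_fst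

theorem restrict_map_fst {X Y : Scheme.{u}} (f : X ⟶ Y) {A B : FEt.Cat Y} (a : A ⟶ B) :
    ((FEt.restrict f).map a).left ≫ pullback.fst _ _ = pullback.fst _ _ ≫ a.left :=
  pullback.lift_fst _ _ _

theorem compat_iff {R R' : FSch.EtCov 𝔛} (n : ℕ) (b : (FSch.EtCov.level 𝔛 n).obj R ⟶ (FSch.EtCov.level 𝔛 n).obj R')
    (a : (FSch.EtCov.level 𝔛 (n + 1)).obj R ⟶ (FSch.EtCov.level 𝔛 (n + 1)).obj R') :
    b.left ≫ R'.obj.left.ι n = R.obj.left.ι n ≫ a.left ↔
      (levelIso R n).hom ≫ (FEt.restrict (𝔛.ι n)).map a = b ≫ (levelIso R' n).hom := by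
  have e1 : ((levelIso R n).hom ≫ (FEt.restrict (𝔛.ι n)).map a).left ≫ pullback.fst _ _ = R.obj.left.ι n ≫ a.left := by
    show ((levelIso R n).hom.left ≫ ((FEt.restrict (𝔛.ι n)).map a).left) ≫ _ = _
    rw [Category.assoc, restrict_map_fst, ← Category.assoc, levelIso_fst]
  have e2 : (b ≫ (levelIso R' n).hom).left ≫ pullback.fst _ _ = b.left ≫ R'.obj.left.ι n := by
    show (b.left ≫ (levelIso R' n).hom.left) ≫ _ = _
    rw [Category.assoc, levelIso_fst]
  constructor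
  · intro h
    refine MorphismProperty.Over.Hom.ext (pullback.hom_ext ?_ ?_)
    · exact e1.trans (h.symm.trans e2.symm)
    · exact (Over.w ((levelIso R n).hom ≫ (FEt.restrict (𝔛.ι n)).map a).hom).trans
        (Over.w (b ≫ (levelIso R' n).hom).hom).symm
  · intro h
    rw [← e2, ← h, e1]

theorem faithful (h : 𝔛.IsFormal) : (FSch.EtCov.level 𝔛 0).Faithful := by
  refine ⟨fun {R R'} φ ψ h0 => ?_⟩
  have key : ∀ n, (FSch.EtCov.level 𝔛 n).map φ = (FSch.EtCov.level 𝔛 n).map ψ := by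
    intro n
    induction n with
    | zero => exact h0
    | succ n ih =>
      haveI := equiv_ι h n
      apply (FEt.restrict (𝔛.ι n)).map_injective
      rw [← cancel_epi (levelIso R n).hom, (compat_iff n ((FSch.EtCov.level 𝔛 n).map φ) ((FSch.EtCov.level 𝔛 (n + 1)).map φ)).1 ((φ.hom.left : FSch.Hom _ _).comm n),
        (compat_iff n ((FSch.EtCov.level 𝔛 n).map ψ) ((FSch.EtCov.level 𝔛 (n + 1)).map ψ)).1 ((ψ.hom.left : FSch.Hom _ _).comm n), ih]
  refine ObjectProperty.hom_ext _ (Over.OverMorphism.ext (FSch.Hom.ext (funext fun n => ?_)))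
  exact congr($(key n).left)

theorem full (h : 𝔛.IsFormal) : (FSch.EtCov.level 𝔛 0).Full := by
  refine ⟨fun {R R'} b => ?_⟩
  let φ : ∀ n, (FSch.EtCov.level 𝔛 n).obj R ⟶ (FSch.EtCov.level 𝔛 n).obj R' := fun n =>
    Nat.rec (motive := fun n => (FSch.EtCov.level 𝔛 n).obj R ⟶ (FSch.EtCov.level 𝔛 n).obj R') b
      (fun n a => haveI := equiv_ι h n
        (FEt.restrict (𝔛.ι n)).preimage ((levelIso R n).inv ≫ a ≫ (levelIso R' n).hom)) n
  have hφ : ∀ n, (φ n).left ≫ R'.obj.left.ι n = R.obj.left.ι n ≫ (φ (n + 1)).left := fun n => by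
    haveI := equiv_ι h n
    rw [compat_iff]
    show (levelIso R n).hom ≫ (FEt.restrict (𝔛.ι n)).map ((FEt.restrict (𝔛.ι n)).preimage _) = _
    rw [Functor.map_preimage, Iso.hom_inv_id_assoc]
  let F : R.obj.left ⟶ R'.obj.left := ⟨fun n => (φ n).left, hφ⟩
  have w : F ≫ R'.obj.hom = R.obj.hom := FSch.Hom.ext (funext fun n => Over.w (φ n).hom)
  exact ⟨ObjectProperty.homMk (Over.homMk F w), MorphismProperty.Over.Hom.ext rfl⟩

theorem essSurj (h : 𝔛.IsFormal) : (FSch.EtCov.level 𝔛 0).EssSurj := by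
  refine ⟨fun V₀ => ?_⟩
  haveI := fun n => equiv_ι h n
  let V : ∀ n, FEt.Cat (𝔛.X n) := fun n =>
    Nat.rec (motive := fun n => FEt.Cat (𝔛.X n)) V₀ (fun n W => (FEt.restrict (𝔛.ι n)).objPreimage W) n
  let e : ∀ n, (FEt.restrict (𝔛.ι n)).obj (V (n + 1)) ≅ V n := fun n => (FEt.restrict (𝔛.ι n)).objObjPreimageIso (V n)
  let R : FSch.Sys.{u} := ⟨fun n => (V n).left, fun n => (e n).inv.left ≫ pullback.fst _ _⟩
  have hw : ∀ n, (e n).inv.left ≫ pullback.snd _ _ = (V n).hom := fun n => Over.w (e n).inv.hom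
  let π : R ⟶ 𝔛 := ⟨fun n => (V n).hom, fun n => by
    show (V n).hom ≫ 𝔛.ι n = ((e n).inv.left ≫ pullback.fst _ _) ≫ (V (n + 1)).hom
    rw [Category.assoc, pullback.condition, ← Category.assoc, hw]⟩
  have hR : FSch.IsEtaleCover π := by
    refine ⟨fun n => ?_, fun n => ⟨(V n).prop.1, (V n).prop.2⟩⟩
    let i : (V n).left ≅ pullback (V (n + 1)).hom (𝔛.ι n) :=
      ((MorphismProperty.Over.forget _ _ _ ⋙ CategoryTheory.Over.forget _).mapIso (e n)).symm
    exact IsPullback.of_iso_pullback ⟨(π : FSch.Hom R 𝔛).comm n |>.symm⟩ i rfl (hw n)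
  exact ⟨⟨Over.mk π, hR⟩, ⟨MorphismProperty.Over.isoMk (Iso.refl _) (Category.id_comp _)⟩⟩

theorem isEquivalence (h : 𝔛.IsFormal) : (FSch.EtCov.level 𝔛 0).IsEquivalence :=
  haveI := faithful h
  haveI := full h
  haveI := essSurj h
  {}

end GrothLib.EtCov7
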